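import Mathlib
import Groth.Prelude.Def_W4c2arithlefschetzNode

/-!
# Fixed-point ideals and lengths
-/

set_option autoImplicit false

noncomputable section

namespace Groth.Agent.ArLefLib

universe u

/-- A fixed-point ideal is controlled by the action on coefficients and on variables. -/
theorem fixIdeal_le {A : Type u} [CommRing A] [IsLocalRing A] [IsNoetherianRing A] {ι C : Type*}
    [Fintype ι] (σ : A →+* A) (v : ι → A) (hv : ∀ i, v i ∈ IsLocalRing.maximalIdeal A) (φ : C → A)
    (hdec : ∀ r : A, ∃ (c : C) (f : ι → A), r = φ c + ∑ i, v i * f i) (K : Ideal A)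
    (hC : ∀ c, σ (φ c) - φ c ∈ K) (hV : ∀ i, σ (v i) - v i ∈ K) : ArLef.fixIdeal (σ : A → A) ≤ K := by
  have h : ArLef.fixIdeal (σ : A → A) ≤
      K ⊔ IsLocalRing.maximalIdeal A • ArLef.fixIdeal (σ : A → A) := by
    refine Ideal.span_le.2 ?_
    rintro _ ⟨r, rfl⟩
    obtain ⟨c, f, rfl⟩ := hdec r
    have e : σ (φ c + ∑ i, v i * f i) - (φ c + ∑ i, v i * f i) =
        (σ (φ c) - φ c) + (∑ i, (σ (v i) - v i) * σ (f i)) + ∑ i, v i * (σ (f i) - f i) := by
      rw [map_add, map_sum, add_assoc (σ (φ c) - φ c), ← Finset.sum_add_distrib, add_sub_add_comm,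
        ← Finset.sum_sub_distrib]
      congr 1
      refine Finset.sum_congr rfl fun i _ => ?_
      rw [map_mul]; ring
    show σ _ - _ ∈ _
    rw [e]
    refine Submodule.add_mem _ (Submodule.add_mem _ (Submodule.mem_sup_left (hC c)) ?_) ?_
    · exact Submodule.mem_sup_left (Submodule.sum_mem _ fun i _ => K.mul_mem_right _ (hV i))
    · exact Submodule.mem_sup_right (Submodule.sum_mem _ fun i _ =>
        Ideal.mul_mem_mul (hv i) (Ideal.subset_span ⟨f i, rfl⟩))
  exact Submodule.le_of_le_smul_of_le_jacobson_bot (IsNoetherian.noetherian _)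
    (IsLocalRing.maximalIdeal_le_jacobson _) h

/-- Multiplying one of two generators by a prime not dividing the other. -/
theorem length_span_pair {A : Type u} [CommRing A] {p a b : A} (hp : Prime p) (hb : ¬ p ∣ b)
    (hnz : p ∈ nonZeroDivisors A) :
    Module.length A (A ⧸ Ideal.span ({p * a, b} : Set A)) =
      Module.length A (A ⧸ Ideal.span ({p, b} : Set A)) + Module.length A (A ⧸ Ideal.span ({a, b} : Set A)) := by
  have hle : Ideal.span ({p * a, b} : Set A) ≤ Ideal.span ({p, b} : Set A) := by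
    refine Ideal.span_le.2 ?_
    rintro x (rfl | rfl)
    · exact Ideal.mul_mem_right _ _ (Ideal.subset_span (by simp))
    · exact Ideal.subset_span (by simp)
  have hle' : Ideal.span ({a, b} : Set A) ≤ Submodule.comap (LinearMap.mulLeft A p) (Ideal.span ({p * a, b} : Set A)) := by
    refine Ideal.span_le.2 ?_
    rintro x (rfl | rfl)
    · exact Ideal.subset_span (by simp)
    · exact Ideal.mul_mem_left _ _ (Ideal.subset_span (by simp))
  rw [add_comm (Module.length A (A ⧸ Ideal.span ({p, b} : Set A)))]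
  refine Module.length_eq_add_of_exact (Submodule.mapQ _ _ (LinearMap.mulLeft A p) hle')
    (Submodule.factor hle) ?_ (Submodule.factor_surjective hle) ?_
  · rw [← LinearMap.ker_eq_bot, LinearMap.ker_eq_bot']
    intro x hx
    obtain ⟨x, rfl⟩ := Submodule.Quotient.mk_surjective _ x
    rw [Submodule.mapQ_apply, Submodule.Quotient.mk_eq_zero] at hx
    obtain ⟨c, d, hcd⟩ := Ideal.mem_span_pair.1 hx
    rw [LinearMap.mulLeft_apply] at hcd
    have hpd : p ∣ d := by
      have : p ∣ d * b := ⟨x - c * a, by linear_combination hcd⟩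
      exact (hp.dvd_or_dvd this).resolve_right hb
    obtain ⟨q, rfl⟩ := hpd
    rw [Submodule.Quotient.mk_eq_zero]
    refine Ideal.mem_span_pair.2 ⟨c, q, ?_⟩
    refine (mem_nonZeroDivisors_iff.1 hnz).1 _ ?_ |> sub_eq_zero.1
    linear_combination hcd
  · rw [LinearMap.exact_iff]
    refine le_antisymm ?_ ?_
    · intro y hy
      obtain ⟨y, rfl⟩ := Submodule.Quotient.mk_surjective _ y
      rw [LinearMap.mem_ker, ← Submodule.mkQ_apply, Submodule.factor_mk, Submodule.mkQ_apply, Submodule.Quotient.mk_eq_zero] at hy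
      obtain ⟨c, d, rfl⟩ := Ideal.mem_span_pair.1 hy
      refine ⟨Submodule.Quotient.mk c, ?_⟩
      rw [Submodule.mapQ_apply, Submodule.Quotient.eq, LinearMap.mulLeft_apply]
      exact Ideal.mem_span_pair.2 ⟨0, -d, by ring⟩
    · rintro _ ⟨x, rfl⟩
      obtain ⟨x, rfl⟩ := Submodule.Quotient.mk_surjective _ x
      rw [Submodule.mapQ_apply, LinearMap.mem_ker, ← Submodule.mkQ_apply, Submodule.factor_mk, Submodule.mkQ_apply, Submodule.Quotient.mk_eq_zero]
      exact Ideal.mul_mem_right _ _ (Ideal.subset_span (by simp))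

theorem length_span_pow {A : Type u} [CommRing A] {p b : A} (hp : Prime p) (hb : ¬ p ∣ b)
    (hnz : p ∈ nonZeroDivisors A) (n : ℕ) :
    Module.length A (A ⧸ Ideal.span ({p ^ n, b} : Set A)) =
      (n : ℕ∞) * Module.length A (A ⧸ Ideal.span ({p, b} : Set A)) := by
  induction n with
  | zero =>
    have : Ideal.span ({p ^ 0, b} : Set A) = ⊤ :=
      (Ideal.eq_top_iff_one _).2 (Ideal.subset_span (by simp))
    rw [Nat.cast_zero, zero_mul, Module.length_eq_zero_iff, this]
    exact Submodule.Quotient.subsingleton_iff.2 rfl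
  | succ n ih =>
    rw [pow_succ', length_span_pair hp hb hnz, ih, Nat.cast_succ, add_mul, one_mul, add_comm]

theorem pow_dvd_colon {A : Type u} [CommRing A] [IsDomain A] {g : A} (hg : g ≠ 0) (S : Ideal A) :
    (Ideal.span {g} * S).colon ({g} : Set A) = S := by
  ext x
  rw [Submodule.mem_colon_singleton, smul_eq_mul, mul_comm x, Ideal.mem_span_singleton_mul]
  constructor
  · rintro ⟨z, hz, e⟩
    rwa [← mul_left_cancel₀ hg e]
  · exact fun h => ⟨x, h, rfl⟩

theorem length_span_pow_mul {A : Type u} [CommRing A] {p a b : A} (hp : Prime p) (hb : ¬ p ∣ b)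
    (hnz : p ∈ nonZeroDivisors A) (n : ℕ) :
    Module.length A (A ⧸ Ideal.span ({p ^ n * a, b} : Set A)) =
      (n : ℕ∞) * Module.length A (A ⧸ Ideal.span ({p, b} : Set A)) +
        Module.length A (A ⧸ Ideal.span ({a, b} : Set A)) := by
  induction n with
  | zero => rw [pow_zero, one_mul, Nat.cast_zero, zero_mul, zero_add]
  | succ n ih =>
    rw [pow_succ', mul_assoc, length_span_pair hp hb hnz, ih, Nat.cast_succ, add_mul, one_mul]
    abel

/-- `A/(J ⊓ K)`, `A/J × A/K` and `A/(J ⊔ K)`. -/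
theorem length_inf_add_sup {A : Type u} [CommRing A] (J K : Ideal A) :
    Module.length A (A ⧸ (J ⊓ K)) + Module.length A (A ⧸ (J ⊔ K)) =
      Module.length A (A ⧸ J) + Module.length A (A ⧸ K) := by
  conv_rhs => rw [← Module.length_prod]
  refine (Module.length_eq_add_of_exact
    (LinearMap.prod (Submodule.factor (inf_le_left : J ⊓ K ≤ J)) (Submodule.factor (inf_le_right : J ⊓ K ≤ K)))
    (LinearMap.coprod (Submodule.factor (le_sup_left : J ≤ J ⊔ K)) (-Submodule.factor (le_sup_right : K ≤ J ⊔ K)))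
    ?_ ?_ ?_).symm
  · rw [← LinearMap.ker_eq_bot, LinearMap.ker_eq_bot']
    intro x hx
    obtain ⟨x, rfl⟩ := Submodule.Quotient.mk_surjective _ x
    have h1 : x ∈ J := (Submodule.Quotient.mk_eq_zero J).1 (congrArg Prod.fst hx)
    have h2 : x ∈ K := (Submodule.Quotient.mk_eq_zero K).1 (congrArg Prod.snd hx)
    exact (Submodule.Quotient.mk_eq_zero _).2 ⟨h1, h2⟩
  · intro z
    obtain ⟨y, hy⟩ := Submodule.factor_surjective (le_sup_left : J ≤ J ⊔ K) z
    exact ⟨(y, 0), by simp [hy]⟩
  · rw [LinearMap.exact_iff]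
    refine le_antisymm ?_ ?_
    · rintro ⟨x, y⟩ h
      obtain ⟨x, rfl⟩ := Submodule.Quotient.mk_surjective _ x
      obtain ⟨y, rfl⟩ := Submodule.Quotient.mk_surjective _ y
      rw [LinearMap.mem_ker, LinearMap.coprod_apply, LinearMap.neg_apply, ← sub_eq_add_neg,
        ← Submodule.mkQ_apply, ← Submodule.mkQ_apply, Submodule.factor_mk, Submodule.factor_mk, sub_eq_zero,
        Submodule.mkQ_apply, Submodule.mkQ_apply, Submodule.Quotient.eq, Submodule.mem_sup] at h
      obtain ⟨a, ha, b, hb, hab⟩ := h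
      refine ⟨Submodule.Quotient.mk (x - a), Prod.ext ?_ ?_⟩
      · refine (Submodule.Quotient.eq J).2 ?_
        simpa using neg_mem ha
      · refine (Submodule.Quotient.eq K).2 ?_
        have : x - a - y = b := by linear_combination -hab
        show x - a - y ∈ K
        rwa [this]
    · rintro _ ⟨x, rfl⟩
      obtain ⟨x, rfl⟩ := Submodule.Quotient.mk_surjective _ x
      rw [LinearMap.mem_ker, LinearMap.coprod_apply, LinearMap.neg_apply, ← sub_eq_add_neg, sub_eq_zero]
      rfl

end Groth.Agent.ArLefLib
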