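import Mathlib
import Groth.Prelude.Def_W4c2arithlefschetzNode
import Groth.Agent.ArLefLib.Basic

/-!
# The formal double point over a discrete valuation ring
-/

set_option autoImplicit false

noncomputable section

namespace Groth.Agent.ArLefLib

open MvPowerSeries

universe u

variable {B : Type u} [CommRing B]

/-- Restriction of a series to the `i`-th axis. -/
def edge (i : Fin 2) : MvPowerSeries (Fin 2) B →+* PowerSeries B where
  toFun f := PowerSeries.mk fun n => coeff (Finsupp.single i n) f
  map_one' := by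
    ext n
    rw [PowerSeries.coeff_mk, coeff_one, PowerSeries.coeff_one]
    simp
  map_mul' f g := by
    ext n
    rw [PowerSeries.coeff_mk, coeff_mul, PowerSeries.coeff_mul, Finsupp.antidiagonal_single,
      Finset.sum_map]
    exact Finset.sum_congr rfl fun x _ => by simp
  map_zero' := by ext n; simp
  map_add' f g := by ext n; simp

theorem coeff_edge (i : Fin 2) (f : MvPowerSeries (Fin 2) B) (n : ℕ) :
    PowerSeries.coeff n (edge i f) = coeff (Finsupp.single i n) f := by
  simp [edge]

theorem edge_X_self (i : Fin 2) : edge (B := B) i (MvPowerSeries.X i) = PowerSeries.X := by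
  classical
  ext n
  rw [coeff_edge, coeff_X, PowerSeries.coeff_X]
  simp [Finsupp.single_eq_single_iff]

theorem edge_X_ne {i j : Fin 2} (h : i ≠ j) : edge (B := B) i (MvPowerSeries.X j) = 0 := by
  classical
  ext n
  rw [coeff_edge, coeff_X, map_zero, if_neg]
  intro e
  rcases (Finsupp.single_eq_single_iff i j n 1).1 e with ⟨h', -⟩ | ⟨-, h'⟩
  · exact h h'
  · exact one_ne_zero h'

theorem edge_C (i : Fin 2) (c : B) : edge i (MvPowerSeries.C c) = PowerSeries.C c := by
  classical
  ext n
  rw [coeff_edge, coeff_C, PowerSeries.coeff_C]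
  simp

theorem edge_X_mul_X (i : Fin 2) : edge (B := B) i (MvPowerSeries.X 0 * MvPowerSeries.X 1) = 0 := by
  rw [map_mul]
  fin_cases i
  · exact mul_eq_zero_of_right _ (edge_X_ne (by decide))
  · exact mul_eq_zero_of_left (edge_X_ne (by decide)) _

theorem fin_two {i j k : Fin 2} (h : i ≠ j) (h' : k ≠ j) : k = i := by
  fin_cases i <;> fin_cases j <;> fin_cases k <;> simp_all

theorem single_of_ne {i j : Fin 2} (h : i ≠ j) (m : Fin 2 →₀ ℕ) (hm : m j = 0) :
    m = Finsupp.single i (m i) := by
  ext k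
  by_cases hk : k = j
  · subst hk; rw [hm, Finsupp.single_eq_of_ne h.symm]
  · rw [fin_two h hk, Finsupp.single_eq_same]

theorem X_dvd_of_edge {i j : Fin 2} (h : i ≠ j) {f : MvPowerSeries (Fin 2) B} (hf : edge i f = 0) :
    MvPowerSeries.X j ∣ f := by
  rw [X_dvd_iff]
  intro m hm
  rw [single_of_ne h m hm, ← coeff_edge, hf, map_zero]

theorem exists_edge_eq {i j : Fin 2} (h : i ≠ j) (q : PowerSeries B) :
    ∃ g : MvPowerSeries (Fin 2) B, edge i g = q := by
  classical
  refine ⟨fun m => if m j = 0 then PowerSeries.coeff (m i) q else 0, ?_⟩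
  ext n
  rw [coeff_edge]
  show (if Finsupp.single i n j = 0 then PowerSeries.coeff (Finsupp.single i n i) q else 0) = _
  rw [Finsupp.single_eq_of_ne h.symm, if_pos rfl, Finsupp.single_eq_same]

theorem exists_dec (f : MvPowerSeries (Fin 2) B) :
    ∃ g h, f = MvPowerSeries.C (MvPowerSeries.constantCoeff f) + MvPowerSeries.X 0 * g + MvPowerSeries.X 1 * h := by
  classical
  let f₁ := f - MvPowerSeries.C (MvPowerSeries.constantCoeff f)
  let r : MvPowerSeries (Fin 2) B := fun m => if m 0 = 0 then coeff m f₁ else 0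
  obtain ⟨g, hg⟩ : MvPowerSeries.X 0 ∣ f₁ - r := X_dvd_iff.2 fun m hm => by
    rw [map_sub, show coeff m r = coeff m f₁ from if_pos hm, sub_self]
  obtain ⟨h, hh⟩ : MvPowerSeries.X 1 ∣ r := X_dvd_iff.2 fun m hm => by
    show (if m 0 = 0 then coeff m f₁ else 0) = 0
    split_ifs with h0
    · have : m = 0 := by ext k; fin_cases k <;> simp [h0, hm]
      subst this
      simp [f₁, coeff_zero_eq_constantCoeff_apply]
    · rfl
  refine ⟨g, h, ?_⟩
  rw [← hg, ← hh]
  show f = _ + (f - _ - r) + r
  abel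

variable (π : B)

local notation "q" => Ideal.Quotient.mk
  (Ideal.span {(MvPowerSeries.X 0 * MvPowerSeries.X 1 - MvPowerSeries.C π : MvPowerSeries (Fin 2) B)})

/-- The two variables. -/
def var (i : Fin 2) : ArLef.NodeAlg B π := q (MvPowerSeries.X i)

theorem var_zero : var π 0 = ArLef.NodeAlg.t π := rfl

theorem var_one : var π 1 = ArLef.NodeAlg.e π := rfl

theorem t_mul_e : ArLef.NodeAlg.t π * ArLef.NodeAlg.e π = algebraMap B (ArLef.NodeAlg B π) π := by
  show q (MvPowerSeries.X 0) * q (MvPowerSeries.X 1) = q (MvPowerSeries.C π)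
  rw [← map_mul]
  exact Ideal.Quotient.eq.mpr (Ideal.mem_span_singleton_self _)

theorem var_mul_var {i j : Fin 2} (h : i ≠ j) : var π i * var π j = algebraMap B (ArLef.NodeAlg B π) π := by
  fin_cases i <;> fin_cases j <;> first | exact absurd rfl h | exact t_mul_e π | skip
  exact (mul_comm _ _).trans (t_mul_e π)

theorem algebraMap_eq (c : B) : algebraMap B (ArLef.NodeAlg B π) c = q (MvPowerSeries.C c) := rfl

theorem node_dec (r : ArLef.NodeAlg B π) :
    ∃ (c : B) (f : Fin 2 → ArLef.NodeAlg B π),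
      r = algebraMap B (ArLef.NodeAlg B π) c + ∑ i, var π i * f i := by
  obtain ⟨r, rfl⟩ := Ideal.Quotient.mk_surjective r
  obtain ⟨g, h, e⟩ := exists_dec r
  refine ⟨MvPowerSeries.constantCoeff r, ![q g, q h], ?_⟩
  rw [Fin.sum_univ_two, algebraMap_eq]
  conv_lhs => rw [e]
  simp [var, add_assoc]

variable [IsDomain B] [IsDiscreteValuationRing B] {π} (hπ : Irreducible π)

/-- Restriction to a branch of the closed fibre. -/
def branch (i : Fin 2) : ArLef.NodeAlg B π →+* PowerSeries (IsLocalRing.ResidueField B) :=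
  Ideal.Quotient.lift _ ((PowerSeries.map (IsLocalRing.residue B)).comp (edge i)) fun a ha => by
    obtain ⟨b, rfl⟩ := Ideal.mem_span_singleton'.1 ha
    have e : IsLocalRing.residue B π = 0 := by
      rw [IsLocalRing.residue_eq_zero_iff, IsLocalRing.mem_maximalIdeal]
      exact hπ.not_isUnit
    have e2 := edge_X_mul_X (B := B) i
    rw [RingHom.comp_apply, map_mul, map_mul, map_sub, map_sub, e2, edge_C, map_zero,
      PowerSeries.map_C, e, map_zero, sub_zero, mul_zero]

theorem branch_mk (i : Fin 2) (f : MvPowerSeries (Fin 2) B) :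
    branch hπ i (q f) = PowerSeries.map (IsLocalRing.residue B) (edge i f) := rfl

theorem branch_self (i : Fin 2) : branch hπ i (var π i) = PowerSeries.X := by
  rw [var, branch_mk, edge_X_self, PowerSeries.map_X]

theorem branch_other {i j : Fin 2} (h : i ≠ j) : branch hπ i (var π j) = 0 := by
  rw [var, branch_mk, edge_X_ne h, map_zero]

include hπ

theorem exists_C_mul {f : PowerSeries B} (hf : PowerSeries.map (IsLocalRing.residue B) f = 0) :
    ∃ g, f = PowerSeries.C π * g := by
  have h : ∀ n, π ∣ PowerSeries.coeff n f := fun n => by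
    have := congrArg (PowerSeries.coeff n) hf
    rwa [PowerSeries.coeff_map, map_zero, IsLocalRing.residue_eq_zero_iff,
      (IsDiscreteValuationRing.irreducible_iff_uniformizer π).1 hπ, Ideal.mem_span_singleton] at this
  choose g hg using h
  exact ⟨PowerSeries.mk g, by ext n; rw [PowerSeries.coeff_C_mul, PowerSeries.coeff_mk, hg]⟩

theorem branch_eq_zero_iff {i j : Fin 2} (h : i ≠ j) (x : ArLef.NodeAlg B π) :
    branch hπ i x = 0 ↔ var π j ∣ x := by
  refine ⟨fun hx => ?_, fun ⟨c, hc⟩ => by rw [hc, map_mul, branch_other hπ h, zero_mul]⟩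
  obtain ⟨f, rfl⟩ := Ideal.Quotient.mk_surjective x
  rw [branch_mk] at hx
  obtain ⟨g, hg⟩ := exists_C_mul hπ hx
  obtain ⟨g', hg'⟩ := exists_edge_eq h g
  obtain ⟨d, hd⟩ := X_dvd_of_edge h (f := f - MvPowerSeries.C π * g')
    (by rw [map_sub, map_mul, edge_C, hg', hg, sub_self])
  rw [eq_add_of_sub_eq hd, map_add, map_mul, map_mul, ← algebraMap_eq, ← var_mul_var π h.symm, mul_assoc]
  exact dvd_add (dvd_mul_right _ _) (dvd_mul_right _ _)

theorem branch_surjective {i j : Fin 2} (h : i ≠ j) : Function.Surjective (branch hπ i) := by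
  intro y
  obtain ⟨f, rfl⟩ := PowerSeries.map_surjective (IsLocalRing.residue B) IsLocalRing.residue_surjective y
  obtain ⟨g, rfl⟩ := exists_edge_eq h f
  exact ⟨q g, rfl⟩

theorem var_mem_nonZeroDivisors {i j : Fin 2} (h : i ≠ j) :
    var π j ∈ nonZeroDivisors (ArLef.NodeAlg B π) := by
  rw [mem_nonZeroDivisors_iff_right]
  intro x hx
  obtain ⟨f, rfl⟩ := Ideal.Quotient.mk_surjective x
  rw [var, ← map_mul, Ideal.Quotient.eq_zero_iff_mem, Ideal.mem_span_singleton] at hx
  obtain ⟨g, hg⟩ := hx
  have e2 := edge_X_mul_X (B := B) i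
  have e3 : PowerSeries.C π * edge i g = 0 := by
    have := congrArg (edge i) hg
    rw [map_mul, map_mul, edge_X_ne h, map_sub, e2, edge_C, mul_zero] at this
    linear_combination this
  have e4 : edge i g = 0 := by
    ext n
    have := congrArg (PowerSeries.coeff n) e3
    rw [PowerSeries.coeff_C_mul, map_zero, mul_eq_zero] at this
    rw [this.resolve_left hπ.ne_zero, map_zero]
  obtain ⟨g', rfl⟩ := X_dvd_of_edge h e4
  rw [Ideal.Quotient.eq_zero_iff_mem, Ideal.mem_span_singleton]
  refine ⟨g', sub_eq_zero.1 ?_⟩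
  have hne : (MvPowerSeries.X j : MvPowerSeries (Fin 2) B) ≠ 0 := fun e => by
    have := edge_X_self (B := B) j
    rw [e, map_zero] at this
    exact PowerSeries.X_ne_zero this.symm
  refine (mul_eq_zero.1 (show MvPowerSeries.X j * (f - _) = 0 from ?_)).resolve_left hne
  linear_combination hg

omit hπ in
theorem node_isLocalRing (hπ : Irreducible π) : IsLocalRing (ArLef.NodeAlg B π) := by
  haveI : Nontrivial (ArLef.NodeAlg B π) := (branch hπ 0).domain_nontrivial
  exact IsLocalRing.of_surjective' q Ideal.Quotient.mk_surjective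

theorem var_mem_maximalIdeal [IsLocalRing (ArLef.NodeAlg B π)] (i : Fin 2) :
    var π i ∈ IsLocalRing.maximalIdeal (ArLef.NodeAlg B π) := by
  rw [IsLocalRing.mem_maximalIdeal]
  intro hu
  have := hu.map (branch hπ i)
  rw [branch_self, PowerSeries.isUnit_iff_constantCoeff, PowerSeries.constantCoeff_X] at this
  exact not_isUnit_zero this

theorem var_ne_zero {i : Fin 2} : var π i ≠ 0 := fun e => by
  have := branch_self hπ i
  rw [e, map_zero] at this
  exact PowerSeries.X_ne_zero this.symm

theorem var_prime {i j : Fin 2} (h : i ≠ j) : Prime (var π j) := by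
  rw [← Ideal.span_singleton_prime (var_ne_zero hπ)]
  have : Ideal.span {var π j} = RingHom.ker (branch hπ i) := by
    ext x
    rw [Ideal.mem_span_singleton, RingHom.mem_ker, branch_eq_zero_iff hπ h]
  rw [this]
  exact RingHom.ker_isPrime _

theorem node_isDomain : IsDomain (ArLef.NodeAlg B π) := by
  haveI := node_isLocalRing hπ
  haveI : Nontrivial (ArLef.NodeAlg B π) := inferInstance
  have hp := var_prime hπ (show (1 : Fin 2) ≠ 0 by decide)
  have hnz := var_mem_nonZeroDivisors hπ (show (1 : Fin 2) ≠ 0 by decide)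
  have split : ∀ x : ArLef.NodeAlg B π, x ≠ 0 → ∃ (n : ℕ) (y : _), x = var π 0 ^ n * y ∧ ¬ var π 0 ∣ y := by
    intro x hx
    suffices h : FiniteMultiplicity (var π 0) x from
      ⟨multiplicity (var π 0) x, h.exists_eq_pow_mul_and_not_dvd⟩
    rw [FiniteMultiplicity]
    by_contra hc
    push Not at hc
    refine hx ((Submodule.mem_bot (ArLef.NodeAlg B π)).1 ?_)
    rw [← Ideal.iInf_pow_eq_bot_of_isLocalRing (Ideal.span {var π 0}) (by
      rw [Ne, Ideal.span_singleton_eq_top]; exact hp.not_isUnit), Submodule.mem_iInf]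
    intro n
    rw [Ideal.span_singleton_pow, Ideal.mem_span_singleton]
    exact (pow_dvd_pow _ n.le_succ).trans (hc n)
  refine (isDomain_iff_noZeroDivisors_and_nontrivial _).2 ⟨⟨fun {x y} hxy => ?_⟩, inferInstance⟩
  by_contra hne
  push Not at hne
  obtain ⟨n, x', rfl, hx'⟩ := split x hne.1
  obtain ⟨m, y', rfl, hy'⟩ := split y hne.2
  have : x' * y' = 0 := (mem_nonZeroDivisors_iff_right.1 (pow_mem hnz (n + m))) _ (by
    linear_combination (norm := ring_nf) hxy)
  exact (hp.dvd_or_dvd (this ▸ dvd_zero _)).elim hx' hy'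

theorem node_fixIdeal_le (σ : ArLef.NodeAlg B π →+* ArLef.NodeAlg B π) (K : Ideal (ArLef.NodeAlg B π))
    (hC : ∀ c : B, σ (algebraMap B _ c) - algebraMap B _ c ∈ K)
    (ht : σ (ArLef.NodeAlg.t π) - ArLef.NodeAlg.t π ∈ K) (he : σ (ArLef.NodeAlg.e π) - ArLef.NodeAlg.e π ∈ K) :
    ArLef.fixIdeal (σ : ArLef.NodeAlg B π → ArLef.NodeAlg B π) ≤ K := by
  haveI := node_isLocalRing hπ
  refine fixIdeal_le σ (var π) (var_mem_maximalIdeal hπ) (algebraMap B (ArLef.NodeAlg B π)) (node_dec π) K hC ?_
  intro i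
  fin_cases i <;> assumption

end Groth.Agent.ArLefLib
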