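import Mathlib
import Groth.Prelude.Def_W4c2arithlefschetzNode
import Groth.Agent.ArLefLib.Node

/-!
# Residual fixed-point lengths at a double point
-/

set_option autoImplicit false

noncomputable section

namespace Groth.Agent.ArLefLib

universe u

theorem span_pair_eq_of_eq {A : Type u} [CommRing A] {x y z u v : A} (hu : IsUnit u)
    (h : x = u * y + v * z) : Ideal.span ({x, z} : Set A) = Ideal.span {y, z} := by
  refine le_antisymm (Ideal.span_le.2 ?_) (Ideal.span_le.2 ?_)
  · rintro w (rfl | rfl)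
    · exact Ideal.mem_span_pair.2 ⟨u, v, h.symm⟩
    · exact Ideal.subset_span (by simp)
  · rintro w (rfl | rfl)
    · obtain ⟨u, rfl⟩ := hu
      exact Ideal.mem_span_pair.2 ⟨(u⁻¹ : Aˣ), -((u⁻¹ : Aˣ) * v), by
        rw [h]; linear_combination w * u.inv_mul⟩
    · exact Ideal.subset_span (by simp)

variable {B : Type u} [CommRing B] [IsDomain B] [IsDiscreteValuationRing B] {π : B} (hπ : Irreducible π)

include hπ

theorem not_var_dvd_var_pow {i j : Fin 2} (h : i ≠ j) (n : ℕ) : ¬ var π j ∣ var π i ^ n := fun hd => by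
  have h' := map_dvd (branch hπ i) hd
  rw [map_pow, branch_self, branch_other hπ h, zero_dvd_iff] at h'
  exact pow_ne_zero n PowerSeries.X_ne_zero h'

theorem not_var_dvd_var {i j : Fin 2} (h : i ≠ j) : ¬ var π j ∣ var π i := fun hd =>
  not_var_dvd_var_pow hπ h 1 (by rwa [pow_one])

theorem length_span_t_e : Module.length (ArLef.NodeAlg B π)
    (ArLef.NodeAlg B π ⧸ Ideal.span ({var π 0, var π 1} : Set (ArLef.NodeAlg B π))) = 1 := by
  let φ := (PowerSeries.constantCoeff).comp (branch hπ 0)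
  have h01 : (0 : Fin 2) ≠ 1 := by decide
  have hk : RingHom.ker φ = Ideal.span ({var π 0, var π 1} : Set (ArLef.NodeAlg B π)) := by
    refine le_antisymm (fun x hx => ?_) (Ideal.span_le.2 ?_)
    · obtain ⟨y, hy⟩ := (PowerSeries.X_dvd_iff.2 hx : PowerSeries.X ∣ branch hπ 0 x)
      obtain ⟨z, rfl⟩ := branch_surjective hπ h01 y
      obtain ⟨w, hw⟩ := (branch_eq_zero_iff hπ h01 (x - var π 0 * z)).1 (by
        rw [map_sub, map_mul, hy, branch_self, sub_self])
      exact Ideal.mem_span_pair.2 ⟨z, w, by linear_combination -hw⟩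
    · rintro x (hx | hx)
      · rw [hx]
        show φ _ = 0
        simp only [φ, RingHom.comp_apply]
        rw [branch_self, PowerSeries.constantCoeff_X]
      · rw [Set.mem_singleton_iff.1 hx]
        show φ _ = 0
        simp only [φ, RingHom.comp_apply]
        rw [branch_other hπ h01, map_zero]
  haveI : (RingHom.ker φ).IsMaximal := RingHom.ker_isMaximal_of_surjective φ
    (PowerSeries.constantCoeff_surj.comp (branch_surjective hπ h01))
  rw [Module.length_eq_one_iff, ← hk, isSimpleModule_iff_isCoatom]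
  exact Ideal.IsMaximal.out

variable (σ : ArLef.NodeAlg B π ≃+* ArLef.NodeAlg B π) (γ : B)

theorem te_ne_zero : var π 0 * var π 1 ≠ 0 := by
  haveI := node_isDomain hπ
  exact mul_ne_zero (var_ne_zero hπ) (var_ne_zero hπ)

omit hπ in
theorem sigma_te {j : ℕ}
    (hσπ : σ (algebraMap B (ArLef.NodeAlg B π) π) = algebraMap B (ArLef.NodeAlg B π) (π + γ * π ^ j)) :
    σ (var π 0) * σ (var π 1) = var π 0 * var π 1 +
      algebraMap B (ArLef.NodeAlg B π) γ * (var π 0 * var π 1) ^ j := by
  rw [← map_mul, var_mul_var π (by decide), hσπ, map_add, map_mul, map_pow]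

/-- Branches fixed: the fixed-point ideal and the residual length. -/
theorem node_residual (j i k : ℕ) (hi : i < j) (hk : k < j) (hγ : IsUnit γ)
    (hσB : ∀ c : B, σ (algebraMap B _ c) - algebraMap B _ c ∈
      Ideal.span ({algebraMap B (ArLef.NodeAlg B π) (π ^ j)} : Set (ArLef.NodeAlg B π)))
    (hσπ : σ (algebraMap B (ArLef.NodeAlg B π) π) = algebraMap B (ArLef.NodeAlg B π) (π + γ * π ^ j))
    (α β : (ArLef.NodeAlg B π)ˣ) (ht : σ (var π 0) = α * var π 0) (he : σ (var π 1) = β * var π 1)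
    (a b : ArLef.NodeAlg B π) (ha : (α : ArLef.NodeAlg B π) - 1 = var π 0 ^ i * var π 1 ^ k * a)
    (hb : (β : ArLef.NodeAlg B π) - 1 = var π 0 ^ i * var π 1 ^ k * b)
    (hea : ¬ var π 1 ∣ a) (htb : ¬ var π 0 ∣ b) :
    Module.length (ArLef.NodeAlg B π)
        (ArLef.NodeAlg B π ⧸ (ArLef.fixIdeal σ).colon ({var π 0 ^ i * var π 1 ^ k} : Set (ArLef.NodeAlg B π))) =
      1 + ((j - i : ℕ) : ℕ∞) *
          Module.length (ArLef.NodeAlg B π) (ArLef.NodeAlg B π ⧸ Ideal.span ({var π 0, b} : Set (ArLef.NodeAlg B π))) +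
        ((j - k : ℕ) : ℕ∞) *
          Module.length (ArLef.NodeAlg B π) (ArLef.NodeAlg B π ⧸ Ideal.span ({var π 1, a} : Set (ArLef.NodeAlg B π))) := by
  haveI := node_isDomain hπ
  have hσte := sigma_te σ γ hσπ
  have hte : var π 0 * var π 1 = algebraMap B (ArLef.NodeAlg B π) π := var_mul_var π (by decide)
  have ht0 : var π 0 ≠ 0 := var_ne_zero hπ
  have he0 : var π 1 ≠ 0 := var_ne_zero hπ
  have htp := var_prime hπ (show (1 : Fin 2) ≠ 0 by decide)
  have hep := var_prime hπ (show (0 : Fin 2) ≠ 1 by decide)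
  have h10 := not_var_dvd_var hπ (show (0 : Fin 2) ≠ 1 by decide)
  have h01 := not_var_dvd_var hπ (show (1 : Fin 2) ≠ 0 by decide)
  have h1 := length_span_t_e hπ
  have hfix : ∀ K : Ideal (ArLef.NodeAlg B π),
      (∀ x : B, σ (algebraMap B _ x) - algebraMap B _ x ∈ K) → σ (var π 0) - var π 0 ∈ K →
        σ (var π 1) - var π 1 ∈ K → ArLef.fixIdeal σ ≤ K :=
    fun K h₁ h₂ h₃ => node_fixIdeal_le hπ (σ : ArLef.NodeAlg B π →+* ArLef.NodeAlg B π) K h₁ h₂ h₃
  generalize var π 0 = t at *
  generalize var π 1 = e at *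
  obtain ⟨m, rfl⟩ : ∃ m, j = i + m + 1 := ⟨j - i - 1, by omega⟩
  obtain ⟨l, hl⟩ : ∃ l, i + m + 1 = k + l + 1 := ⟨i + m + 1 - k - 1, by omega⟩
  rw [show i + m + 1 - i = m + 1 by omega, show i + m + 1 - k = l + 1 by omega]
  let c : ArLef.NodeAlg B π := algebraMap B (ArLef.NodeAlg B π) γ
  have hc : IsUnit c := hγ.map _
  let g : ArLef.NodeAlg B π := t ^ i * e ^ k
  have hpow : (t * e) ^ (i + m + 1) = g * (t ^ (m + 1) * e ^ (l + 1)) := by
    rw [mul_pow]
    nth_rewrite 2 [hl]
    simp only [g]; ring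
  have hrel : a + b + g * a * b = c * (t ^ m * e ^ l) := by
    rw [ht, he, hpow, eq_add_of_sub_eq ha, eq_add_of_sub_eq hb] at hσte
    refine mul_left_cancel₀ (mul_ne_zero (mul_ne_zero (pow_ne_zero i ht0) (pow_ne_zero k he0))
      (mul_ne_zero ht0 he0)) ?_
    simp only [g, c] at hσte ⊢
    linear_combination (norm := ring_nf) hσte
  have hI : ArLef.fixIdeal σ = Ideal.span {g} * Ideal.span ({t * a, e * b} : Set (ArLef.NodeAlg B π)) := by
    rw [Ideal.span_mul_span']
    have hta : g * (t * a) = σ t - t := by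
      rw [ht]; simp only [g]; linear_combination (-t) * ha
    have hb' : g * (e * b) = σ e - e := by
      rw [he]; simp only [g]; linear_combination (-e) * hb
    refine le_antisymm ?_ (Ideal.span_le.2 ?_)
    · have : c * (t * e) ^ (i + m + 1) = e * (g * (t * a)) + (t + g * t * a) * (g * (e * b)) := by
        rw [hpow]
        simp only [g] at hrel ⊢
        linear_combination (norm := ring_nf) (-(t ^ i * e ^ k * t * e)) * hrel
      refine hfix _ (fun x => ?_) ?_ ?_
      · obtain ⟨y, hy⟩ := Ideal.mem_span_singleton'.1 (hσB x)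
        show σ _ - _ ∈ _
        rw [← hy, map_pow, ← hte]
        refine Ideal.mul_mem_left _ _ ((Ideal.unit_mul_mem_iff_mem _ hc).1 ?_)
        rw [this]
        exact Submodule.add_mem _ (Ideal.mul_mem_left _ _ (Ideal.subset_span ⟨g, rfl, _, by simp, rfl⟩))
          (Ideal.mul_mem_left _ _ (Ideal.subset_span ⟨g, rfl, _, by simp, rfl⟩))
      · rw [← hta]; exact Ideal.subset_span ⟨g, rfl, _, by simp, rfl⟩
      · rw [← hb']; exact Ideal.subset_span ⟨g, rfl, _, by simp, rfl⟩
    · rintro _ ⟨_, rfl, y, hy, rfl⟩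
      rcases hy with hy | hy
      · rw [hy]; exact Ideal.subset_span ⟨t, hta.symm⟩
      · rw [Set.mem_singleton_iff.1 hy]; exact Ideal.subset_span ⟨e, hb'.symm⟩
  rw [hI, pow_dvd_colon (mul_ne_zero (pow_ne_zero _ ht0) (pow_ne_zero _ he0))]
  have hteb : ¬ t ∣ e * b := fun h => (htp.dvd_or_dvd h).elim h01 htb
  have hnz : ∀ x : ArLef.NodeAlg B π, x ≠ 0 → x ∈ nonZeroDivisors _ :=
    fun x hx => mem_nonZeroDivisors_of_ne_zero hx
  rw [length_span_pair htp hteb (hnz t ht0), Set.pair_comm t (e * b), length_span_pair hep h10 (hnz e he0),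
    Set.pair_comm e t, h1, Set.pair_comm a (e * b), length_span_pair hep hea (hnz e he0), Set.pair_comm b t]
  have hab : Ideal.span ({t ^ m * e ^ l, b} : Set (ArLef.NodeAlg B π)) = Ideal.span {a, b} := by
    obtain ⟨c', hc'⟩ := hc.exists_left_inv
    exact (span_pair_eq_of_eq (u := c' * (1 + g * b)) (v := c')
      (IsUnit.mul (IsUnit.of_mul_eq_one c hc') (by
        rw [show 1 + g * b = (β : ArLef.NodeAlg B π) by simp only [g]; linear_combination -hb]
        exact β.isUnit))
      (by linear_combination (norm := ring_nf) (-c') * hrel - t ^ m * e ^ l * hc'))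
  rw [Set.pair_comm b a, ← hab, length_span_pow_mul htp htb (hnz t ht0)]
  have hel : Module.length (ArLef.NodeAlg B π) (ArLef.NodeAlg B π ⧸ Ideal.span ({e ^ l, b} : Set (ArLef.NodeAlg B π))) =
      (l : ℕ∞) * Module.length (ArLef.NodeAlg B π) (ArLef.NodeAlg B π ⧸ Ideal.span ({e, a} : Set (ArLef.NodeAlg B π))) := by
    cases l with
    | zero =>
      rw [Nat.cast_zero, zero_mul, pow_zero, Module.length_eq_zero_iff]
      exact Submodule.Quotient.subsingleton_iff.2 ((Ideal.eq_top_iff_one _).2 (Ideal.subset_span (by simp)))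
    | succ l =>
      have hα : (α : ArLef.NodeAlg B π) * b = c * (t ^ m * e ^ (l + 1)) - a := by
        rw [eq_add_of_sub_eq ha]; simp only [g] at hrel; linear_combination hrel
      obtain ⟨α', hα'⟩ := α.isUnit.exists_left_inv
      have hbe : b = -α' * a + α' * c * t ^ m * e ^ l * e := by
        linear_combination (norm := ring_nf) α' * hα - b * hα'
      have heq : Ideal.span ({b, e} : Set (ArLef.NodeAlg B π)) = Ideal.span {a, e} :=
        span_pair_eq_of_eq (IsUnit.of_mul_eq_one (α : ArLef.NodeAlg B π) hα').neg hbe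
      have heb : ¬ e ∣ b := fun h => hea (by
        have h2 : e ∣ c * (t ^ m * e ^ (l + 1)) - α * b :=
          dvd_sub (dvd_mul_of_dvd_right (dvd_mul_of_dvd_right (dvd_pow_self _ l.succ_ne_zero) _) _) (h.mul_left _)
        rwa [hα, sub_sub_cancel] at h2)
      rw [length_span_pow hep heb (hnz e he0), Set.pair_comm e b, heq, Set.pair_comm a e]
  rw [hel, Nat.cast_succ, Nat.cast_succ, add_mul, add_mul, one_mul, one_mul]
  abel

end Groth.Agent.ArLefLib
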