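import Mathlib
import Groth.Prelude.Def_W4c2arithlefschetzNode
import Groth.Agent.ArLefLib.Node

/-!
# Residual fixed-point length at a smooth point
-/

set_option autoImplicit false

noncomputable section

namespace Groth.Agent.ArLefLib

universe u

theorem smooth_residual (B : Type u) [CommRing B] [IsDomain B] [IsDiscreteValuationRing B] (π : B) (hπ : Irreducible π)
    (j i : ℕ) (hij : i < j) (γ : B) (hγ : IsUnit γ)
    (σ : PowerSeries B ≃+* PowerSeries B)
    (hσB : ∀ b : B, σ (algebraMap B (PowerSeries B) b) - algebraMap B (PowerSeries B) b ∈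
      Ideal.span ({algebraMap B (PowerSeries B) (π ^ j)} : Set (PowerSeries B)))
    (hσπ : σ (algebraMap B (PowerSeries B) π) = algebraMap B (PowerSeries B) (π + γ * π ^ j))
    (f : PowerSeries B) (hf : σ PowerSeries.X - PowerSeries.X = algebraMap B (PowerSeries B) (π ^ i) * f)
    (hfπ : ¬ (algebraMap B (PowerSeries B) π ∣ f)) :
    Module.length (PowerSeries B) (PowerSeries B ⧸ (ArLef.fixIdeal σ).colon ({algebraMap B (PowerSeries B) (π ^ i)} : Set (PowerSeries B))) =
      ((j - i : ℕ) : ℕ∞) * Module.length (PowerSeries (IsLocalRing.ResidueField B)) (PowerSeries (IsLocalRing.ResidueField B) ⧸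
        Ideal.span ({PowerSeries.map (IsLocalRing.residue B) f} : Set (PowerSeries (IsLocalRing.ResidueField B)))) := by
  classical
  let P : PowerSeries B := algebraMap B (PowerSeries B) π
  let res := PowerSeries.map (IsLocalRing.residue B)
  have hP : P = PowerSeries.C π := rfl
  have hres : Function.Surjective res :=
    PowerSeries.map_surjective (IsLocalRing.residue B) IsLocalRing.residue_surjective
  have hres0 : res P = 0 := by
    rw [hP, PowerSeries.map_C, (IsLocalRing.residue_eq_zero_iff π).2
      ((IsLocalRing.mem_maximalIdeal π).2 hπ.not_isUnit), map_zero]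
  have hker : RingHom.ker res = Ideal.span {P} := by
    refine le_antisymm (fun x hx => ?_) ((Ideal.span_singleton_le_iff_mem _).2 hres0)
    obtain ⟨y, rfl⟩ := ArLefLib.exists_C_mul hπ hx
    exact Ideal.mul_mem_right _ _ (Ideal.mem_span_singleton_self _)
  have hP0 : P ≠ 0 := fun h => hπ.ne_zero (PowerSeries.C_injective (h.trans (map_zero PowerSeries.C).symm))
  have hPp : Prime P := (Ideal.span_singleton_prime hP0).1 (hker ▸ RingHom.ker_isPrime _)
  have hI : ArLef.fixIdeal σ = Ideal.span {P ^ i} * Ideal.span ({P ^ (j - i), f} : Set (PowerSeries B)) := by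
    rw [Ideal.span_mul_span']
    refine le_antisymm ?_ (Ideal.span_le.2 ?_)
    · refine ArLefLib.fixIdeal_le (σ : PowerSeries B →+* PowerSeries B) (fun _ : Fin 1 => PowerSeries.X)
        (fun _ => ?_) (algebraMap B (PowerSeries B)) (fun r => ?_) _ (fun c => ?_) (fun _ => ?_)
      · rw [IsLocalRing.mem_maximalIdeal]
        intro hu
        rw [mem_nonunits_iff.symm.not_left.symm] at hu
        exact hu PowerSeries.X_prime.not_isUnit
      · refine ⟨PowerSeries.constantCoeff r, fun _ => PowerSeries.mk fun p => PowerSeries.coeff (p + 1) r, ?_⟩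
        rw [Fin.sum_univ_one, add_comm]
        exact PowerSeries.eq_X_mul_shift_add_const r
      · obtain ⟨x, hx⟩ := Ideal.mem_span_singleton'.1 (hσB c)
        show σ _ - _ ∈ _
        rw [← hx, map_pow]
        refine Ideal.mul_mem_left _ _ (Ideal.subset_span ?_)
        exact ⟨P ^ i, rfl, P ^ (j - i), by simp, by
          show P ^ i * P ^ (j - i) = _; rw [← pow_add, Nat.add_sub_cancel' hij.le]⟩
      · show σ _ - _ ∈ _
        rw [hf, map_pow]
        exact Ideal.subset_span ⟨P ^ i, rfl, f, by simp, rfl⟩
    · rintro _ ⟨_, rfl, y, hy, rfl⟩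
      rcases hy with hy | hy
      · rw [hy]
        have h : algebraMap B (PowerSeries B) γ * P ^ j ∈ ArLef.fixIdeal σ :=
          Ideal.subset_span ⟨P, show σ P - P = _ by rw [hσπ, map_add, map_mul, map_pow]; ring⟩
        show P ^ i * P ^ (j - i) ∈ _
        rw [← pow_add, Nat.add_sub_cancel' hij.le]
        exact (Ideal.unit_mul_mem_iff_mem _ (hγ.map _)).1 h
      · rw [Set.mem_singleton_iff.1 hy]
        show P ^ i * f ∈ _
        exact Ideal.subset_span ⟨PowerSeries.X, show σ _ - _ = _ by rw [hf, map_pow]⟩
  rw [map_pow, hI, ArLefLib.pow_dvd_colon (pow_ne_zero i hP0),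
    ArLefLib.length_span_pow hPp hfπ (mem_nonZeroDivisors_of_ne_zero hP0)]
  congr 1
  letI : Algebra (PowerSeries B) (PowerSeries (IsLocalRing.ResidueField B)) := res.toAlgebra
  let J : Ideal (PowerSeries (IsLocalRing.ResidueField B)) :=
    Ideal.span {res f}
  let L : PowerSeries B →ₗ[PowerSeries B] PowerSeries (IsLocalRing.ResidueField B) ⧸ J :=
    ((Submodule.mkQ J).restrictScalars (PowerSeries B)).comp
      (Algebra.linearMap (PowerSeries B) (PowerSeries (IsLocalRing.ResidueField B)))
  have hL : Function.Surjective L := fun y => by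
    obtain ⟨y, rfl⟩ := Submodule.Quotient.mk_surjective _ y
    obtain ⟨x, rfl⟩ := hres y
    exact ⟨x, rfl⟩
  have hkL : LinearMap.ker L = Ideal.span ({P, f} : Set (PowerSeries B)) := by
    ext x
    rw [LinearMap.mem_ker]
    show Submodule.Quotient.mk (res x) = 0 ↔ _
    rw [Submodule.Quotient.mk_eq_zero, Ideal.mem_span_pair, Ideal.mem_span_singleton']
    constructor
    · rintro ⟨c, hc⟩
      obtain ⟨c, rfl⟩ := hres c
      have : x - c * f ∈ RingHom.ker res := by rw [RingHom.mem_ker, map_sub, map_mul, hc, sub_self]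
      rw [hker, Ideal.mem_span_singleton'] at this
      obtain ⟨d, hd⟩ := this
      exact ⟨d, c, by linear_combination hd⟩
    · rintro ⟨d, c, rfl⟩
      exact ⟨res c, by rw [map_add, map_mul, map_mul, hres0, mul_zero, zero_add]⟩
  rw [((Submodule.quotEquivOfEq _ _ hkL.symm).trans (L.quotKerEquivOfSurjective hL)).length_eq]
  exact Module.length_eq_of_surjective (R := PowerSeries (IsLocalRing.ResidueField B)) hres

end Groth.Agent.ArLefLib
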